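import Groth.Agent.Lefpen.H712.HT
import Groth.Agent.Sga7.H754.SCDef
import Groth.Agent.Etcore.LimBC1
import Groth.Agent.Etcore.HpVia

/-!
# Constant coefficients: two isomorphic base changes

`g : X ⟶ Y`, `c₁ c₂ : T ⟶ Y` with an isomorphism `e : X ×_Y T ≅ X ×_Y T` over `T` of the two base changes. Then
`H^n(X ×_Y Z, M)` for `w ≫ c₁` and `w ≫ c₂` are isomorphic, functorially in `w : Z ⟶ T` (`exists_psi`).
-/

set_option autoImplicit false
universe u
open CategoryTheory CategoryTheory.Limits AlgebraicGeometry Opposite Abelian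
open scoped Groth.Agent.Etcore.EtInst
open Groth.Agent.Etcore.EtInst

namespace Groth.Agent.Lefpen.H119.ConstT

open Groth.Agent.Etcore Groth.Agent.Etcore.HQ Groth.Agent.Etcore.HpullCalc Groth.Agent.Etcore.HC
  Groth.Agent.Lefpen.H712.HT Groth.Agent.Etcore.PullCoh Groth.Agent.Etcore.HpVia

/-- `HC` and `hpVia`. -/
theorem HC_HHmap_pullConst (M : Type) [AddCommGroup M] {W X' X : Scheme.{u}} (g : W ⟶ X')
    (t : X' ⟶ X) (s : W ⟶ X) (w : g ≫ t = s) (n : ℕ)
    (x : HH X' ((EtCoh.pull t).obj (EtCoh.const X M)) n) :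
    HC M g n (HHmap (EtCore.pullConst t M).hom n x) =
      HHmap (EtCore.pullConst s M).hom n (hpVia g t s w (EtCoh.const X M) n x) := by
  rw [HC, hpl_map, pullConst_comp g t s w M, hpl_apply, HHmap_comp, ← hpVia_eq g t s w]

variable {X Y : Scheme.{u}} (g : X ⟶ Y) (M : Type) [AddCommGroup M]

/-- The comparison of `HT` with the cohomology of the constant sheaf. -/
noncomputable def kap {T : Scheme.{u}} (t : T ⟶ Y) (n : ℕ) :
    HT g (EtCoh.const X M) t n →+ HH (pullback g t) (EtCoh.const (pullback g t) M) n :=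
  HHmap (EtCore.pullConst (pullback.fst g t) M).hom n

theorem kap_bijective {T : Scheme.{u}} (t : T ⟶ Y) (n : ℕ) : Function.Bijective (kap g M t n) :=
  HHmap_bijective (EtCore.pullConst (pullback.fst g t) M).hom n

theorem HC_kap {T T' : Scheme.{u}} {t : T ⟶ Y} {t' : T' ⟶ Y} (φ : T' ⟶ T) (h : φ ≫ t = t') (n : ℕ)
    (x : HT g (EtCoh.const X M) t n) :
    HC M (bm g φ h) n (kap g M t n x) = kap g M t' n (rs g (EtCoh.const X M) φ h n x) := by
  have h1 := HC_HHmap_pullConst M (bm g φ h) (pullback.fst g t)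
    (pullback.fst g t') (bm_fst g φ h) n x
  have h2 := LimBC1.res_eq_hpVia (EtCoh.const X M) (bm g φ h) (bm_fst g φ h) n x
  exact h1.trans (congrArg (HHmap (EtCore.pullConst (pullback.fst g t') M).hom n) h2.symm)

theorem wcomp {Z Z' T Y : Scheme.{u}} {w : Z ⟶ T} {w' : Z' ⟶ T} {a : Z' ⟶ Z} (h : a ≫ w = w')
    (c : T ⟶ Y) : a ≫ w ≫ c = w' ≫ c := by rw [← Category.assoc, h]

section Psi

variable {T : Scheme.{u}} {c₁ c₂ : T ⟶ Y} (d : pullback g c₂ ⟶ pullback g c₁)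
  (hd : d ≫ pullback.snd g c₁ = pullback.snd g c₂)

/-- The base change of `d`. -/
noncomputable def dw {Z : Scheme.{u}} (w : Z ⟶ T) : pullback g (w ≫ c₂) ⟶ pullback g (w ≫ c₁) :=
  pullback.lift (bm g w rfl ≫ d ≫ pullback.fst g c₁) (pullback.snd g (w ≫ c₂)) (by
    have h1 : pullback.fst g c₁ ≫ g = pullback.snd g c₁ ≫ c₁ := pullback.condition
    rw [Category.assoc, Category.assoc, h1, ← Category.assoc d, hd, ← Category.assoc (bm g w rfl),
      bm_snd, Category.assoc])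

theorem dw_snd {Z : Scheme.{u}} (w : Z ⟶ T) :
    dw g d hd w ≫ pullback.snd g (w ≫ c₁) = pullback.snd g (w ≫ c₂) := pullback.lift_snd _ _ _

theorem dw_fst {Z : Scheme.{u}} (w : Z ⟶ T) :
    dw g d hd w ≫ pullback.fst g (w ≫ c₁) = bm g w rfl ≫ d ≫ pullback.fst g c₁ :=
  pullback.lift_fst _ _ _

theorem dw_bm {Z : Scheme.{u}} (w : Z ⟶ T) : dw g d hd w ≫ bm g w rfl = bm g w rfl ≫ d := by
  apply pullback.hom_ext
  · rw [Category.assoc, bm_fst, dw_fst, Category.assoc]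
  · rw [Category.assoc, bm_snd, ← Category.assoc, dw_snd, Category.assoc, hd, bm_snd]

theorem bm_dw {Z Z' : Scheme.{u}} (w : Z ⟶ T) (w' : Z' ⟶ T) (a : Z' ⟶ Z) (h : a ≫ w = w') :
    bm g a (wcomp h c₂) ≫ dw g d hd w =
      dw g d hd w' ≫ bm g a (wcomp h c₁) := by
  apply pullback.hom_ext
  · rw [Category.assoc, Category.assoc, dw_fst, bm_fst, dw_fst, ← Category.assoc]
    congr 1
    exact bm_bm g w rfl a _ w' h rfl
  · rw [Category.assoc, Category.assoc, dw_snd, bm_snd, bm_snd, ← Category.assoc, dw_snd]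

theorem dw_dw (d' : pullback g c₁ ⟶ pullback g c₂) (hd' : d' ≫ pullback.snd g c₂ = pullback.snd g c₁)
    (hdd : d' ≫ d = 𝟙 _) {Z : Scheme.{u}} (w : Z ⟶ T) : dw g d' hd' w ≫ dw g d hd w = 𝟙 _ := by
  apply pullback.hom_ext
  · rw [Category.assoc, dw_fst, ← Category.assoc, dw_bm, Category.assoc, ← Category.assoc d', hdd,
      Category.id_comp, bm_fst, Category.id_comp]
  · rw [Category.assoc, dw_snd, dw_snd, Category.id_comp]

end Psi

/-- Isomorphic base changes have isomorphic cohomology with constant coefficients, naturally. -/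
theorem exists_psi {T : Scheme.{u}} (c₁ c₂ : T ⟶ Y)
    (e : pullback g c₁ ≅ pullback g c₂) (he : e.hom ≫ pullback.snd g c₂ = pullback.snd g c₁) (n : ℕ) :
    ∃ ψ : ∀ {Z : Scheme.{u}} (w : Z ⟶ T),
      HT g (EtCoh.const X M) (w ≫ c₁) n →+ HT g (EtCoh.const X M) (w ≫ c₂) n,
      (∀ {Z : Scheme.{u}} (w : Z ⟶ T), Function.Bijective (ψ w)) ∧
      ∀ {Z Z' : Scheme.{u}} (w : Z ⟶ T) (w' : Z' ⟶ T) (a : Z' ⟶ Z) (h : a ≫ w = w')
        (x : HT g (EtCoh.const X M) (w ≫ c₁) n),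
        rs g (EtCoh.const X M) a (wcomp h c₂) n (ψ w x) =
        ψ w' (rs g (EtCoh.const X M) a (wcomp h c₁) n x) := by
  have he' : e.inv ≫ pullback.snd g c₁ = pullback.snd g c₂ := by rw [← he, e.inv_hom_id_assoc]
  let κ {Z : Scheme.{u}} (t : Z ⟶ Y) := AddEquiv.ofBijective (kap g M t n) (kap_bijective g M t n)
  let η {Z : Scheme.{u}} (w : Z ⟶ T) : HH (pullback g (w ≫ c₁)) (EtCoh.const (pullback g (w ≫ c₁)) M) n →+
    HH (pullback g (w ≫ c₂)) (EtCoh.const (pullback g (w ≫ c₂)) M) n := HC M (dw g e.inv he' w) n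
  have hη : ∀ {Z : Scheme.{u}} (w : Z ⟶ T), Function.Bijective (η w) := by
    intro Z w
    have h1 : dw g e.hom he w ≫ dw g e.inv he' w = 𝟙 _ := dw_dw g e.inv he' e.hom he e.hom_inv_id w
    have h2 : dw g e.inv he' w ≫ dw g e.hom he w = 𝟙 _ := dw_dw g e.hom he e.inv he' e.inv_hom_id w
    have : IsIso (dw g e.inv he' w) := ⟨dw g e.hom he w, h2, h1⟩
    exact Groth.Agent.Sga7.H754.SCDef.bijective_HC_of_isIso M _ n
  refine ⟨fun w => ((κ (w ≫ c₂)).symm.toAddMonoidHom.comp (η w)).comp (κ (w ≫ c₁)).toAddMonoidHom,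
    fun w => ?_, fun w w' a h x => ?_⟩
  · exact ((κ (w ≫ c₂)).symm.bijective.comp (hη w)).comp (κ (w ≫ c₁)).bijective
  · apply (κ (w' ≫ c₂)).injective
    have h1 : ∀ y, κ (w' ≫ c₂) (rs g (EtCoh.const X M) a
        (wcomp h c₂) n ((κ (w ≫ c₂)).symm y)) =
        HC M (bm g a (wcomp h c₂)) n y := by
      intro y
      refine (HC_kap g M a _ n _).symm.trans ?_
      exact congrArg _ ((κ (w ≫ c₂)).apply_symm_apply y)
    have h2 : κ (w' ≫ c₁) (rs g (EtCoh.const X M) a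
        (wcomp h c₁) n x) =
        HC M (bm g a (wcomp h c₁)) n (κ (w ≫ c₁) x) :=
      (HC_kap g M a _ n x).symm
    refine (h1 _).trans ?_
    refine Eq.trans ?_ ((κ (w' ≫ c₂)).apply_symm_apply _).symm
    refine Eq.trans ?_ (congrArg (η w') h2.symm)
    exact (HC_HC M _ _ _ (bm_dw g e.inv he' w w' a h) n _).trans (HC_HC M _ _ _ rfl n _).symm

end Groth.Agent.Lefpen.H119.ConstT
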