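import Groth.Agent.Lefpen.H916.ThetaDef
import Groth.Prelude.Def_FEt
import Mathlib.AlgebraicGeometry.Sites.EtalePoint

/-!
# The cover of the multiples `M • z`

For `th : Theta g F q U` and `M : ℕ`: the finite étale cover `EM ⟶ U`, an open and closed subscheme of `E`, whose
geometric points are the classes `M • z`.
-/

set_option autoImplicit false
universe u
open CategoryTheory CategoryTheory.Limits AlgebraicGeometry Opposite
open Groth.Agent.Lefpen.H712.HT Groth.Agent.Lefpen.H916.ThetaDef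

namespace Groth.Agent.Lefpen.H119.Cover

variable {S Y : Scheme.{u}} {g : Y ⟶ S} {F : EtCoh.Ab Y} {q : ℕ} {U : S.Opens}
  (th : Theta g F q U)

/-- The cover `E`. -/
noncomputable def EE : FEt.Cat (U : Scheme.{u}) :=
  MorphismProperty.Over.mk ⊤ th.p ⟨th.isFinite, th.etale⟩

theorem EE_left : (EE th).left = th.E := rfl

theorem EE_hom : (EE th).hom = th.p := rfl

theorem nat' {Ω : Type u} [Field Ω] [IsSepClosed Ω] {Ω' : Type u} [Field Ω'] [IsSepClosed Ω']
    (φ : Spec (CommRingCat.of Ω') ⟶ Spec (CommRingCat.of Ω)) (ξ : Spec (CommRingCat.of Ω) ⟶ S)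
    (ξ' : Spec (CommRingCat.of Ω') ⟶ S) (h : φ ≫ ξ = ξ')
    (e : Spec (CommRingCat.of Ω) ⟶ th.E) (z : HT g F ξ q) (hr : th.rel ξ e z) :
    th.rel ξ' (φ ≫ e) (rs g F φ h q z) := by
  subst h
  exact th.nat φ ξ e z hr

theorem over_mem {Ω : Type u} [Field Ω] [IsSepClosed Ω] (ξ : Spec (CommRingCat.of Ω) ⟶ S)
    (e : Spec (CommRingCat.of Ω) ⟶ th.E) (z : HT g F ξ q) (hr : th.rel ξ e z) : ξ default ∈ U := by
  rw [← th.over ξ e z hr, ← Category.assoc]
  exact ((e ≫ th.p) default).2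

/-- The cover of the classes `M • z`. -/
theorem exists_EM (M : ℕ) : ∃ (EM : FEt.Cat (U : Scheme.{u})) (j : EM ⟶ EE th), Mono j.left ∧
    (∀ {Ω : Type u} [Field Ω] [IsSepClosed Ω] (e : Spec (CommRingCat.of Ω) ⟶ EM.left),
      ∃ z, th.rel (e ≫ EM.hom ≫ U.ι) (e ≫ j.left) (M • z)) ∧
    (∀ {Ω : Type u} [Field Ω] [IsSepClosed Ω] (ξ : Spec (CommRingCat.of Ω) ⟶ S)
      (z : HT g F ξ q), ξ default ∈ U → ∃ e' : Spec (CommRingCat.of Ω) ⟶ EM.left,
        th.rel ξ (e' ≫ j.left) (M • z)) := by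
  obtain ⟨μ, hμ, hμr⟩ := th.mul M
  have i1 := th.isFinite
  have i2 := th.etale
  have i3 : IsFinite (μ ≫ th.p) := by rw [hμ]; infer_instance
  have i4 : Etale (μ ≫ th.p) := by rw [hμ]; infer_instance
  have i5 : IsFinite μ := IsFinite.of_comp μ th.p
  have i6 : Etale μ := Etale.of_comp μ th.p
  let V : th.E.Opens := ⟨Set.range μ, μ.isOpenMap.isOpen_range⟩
  have i8 : IsOpenImmersion V.ι := inferInstance
  have hcl : IsClosed (Set.range V.ι) := by
    rw [Scheme.Opens.range_ι]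
    exact μ.isClosedMap.isClosed_range
  have i7 : IsClosedImmersion V.ι := IsClosedImmersion.of_isPreimmersion V.ι hcl
  let EM : FEt.Cat (U : Scheme.{u}) :=
    MorphismProperty.Over.mk ⊤ (V.ι ≫ th.p) ⟨inferInstance, inferInstance⟩
  let j : EM ⟶ EE th := MorphismProperty.Over.homMk V.ι rfl trivial
  refine ⟨EM, j, inferInstanceAs (Mono V.ι), ?_, ?_⟩
  · intro Ω _ _ e
    obtain ⟨x, hx⟩ : (e ≫ V.ι) default ∈ Set.range μ := by
      have : (e ≫ V.ι) default = (e default).1 := rfl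
      rw [this]
      exact (e default).2
    obtain ⟨l, hl, -⟩ := Scheme.exists_fac_of_etale_of_isSepClosed μ (e ≫ V.ι) x hx
    obtain ⟨z, hz⟩ := th.exists_z l
    have h1 := hμr _ l z hz
    have h2 : l ≫ th.p ≫ U.ι = e ≫ EM.hom ≫ U.ι := by
      change _ = e ≫ (V.ι ≫ th.p) ≫ U.ι
      rw [Category.assoc, ← Category.assoc e, ← hl, Category.assoc, ← Category.assoc μ, hμ]
    rw [hl] at h1
    rw [← h2]
    exact ⟨z, h1⟩
  · intro Ω _ _ ξ z hξ
    obtain ⟨e, he⟩ := th.exists_e ξ hξ z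
    have h1 := hμr _ e z he
    have hr : Set.range (e ≫ μ) ⊆ Set.range V.ι := by
      rw [Scheme.Opens.range_ι]
      rintro _ ⟨y, rfl⟩
      exact ⟨e y, (Scheme.Hom.comp_apply e μ y).symm⟩
    let l : Spec (CommRingCat.of Ω) ⟶ (V : Scheme.{u}) := IsOpenImmersion.lift V.ι (e ≫ μ) hr
    have h2 : l ≫ V.ι = e ≫ μ := IsOpenImmersion.lift_fac _ _ _
    refine ⟨l, ?_⟩
    change th.rel ξ (l ≫ V.ι) (M • z)
    rw [h2]
    exact h1

end Groth.Agent.Lefpen.H119.Cover
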