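import Groth.Agent.Pi1B.FieldGal3
import Groth.Agent.S0295

/-!
# Isomorphisms of finite étale covers of the spectrum of a field

`nonempty_iso`: an equivariant bijection between the geometric fibres of two finite étale covers of `Spec K` gives
an isomorphism.
-/

set_option autoImplicit false
universe u
open CategoryTheory CategoryTheory.Limits AlgebraicGeometry

namespace Groth.Agent.Lefpen.H119.GalIso

open Groth.Agent.Pi1B.FieldGal PreGaloisCategory

theorem nonempty_iso (K : Type u) [Field K] (E₁ E₂ : FEt.Cat (Spec (CommRingCat.of K)))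
    (β : FEt.fiberObj (geomPt K) E₁ → FEt.fiberObj (geomPt K) E₂) (hβ : Function.Bijective β)
    (heq : ∀ (g : Field.absoluteGaloisGroup K) (s : FEt.fiberObj (geomPt K) E₁), β (g • s) = g • β s) :
    Nonempty (E₁ ≅ E₂) := by
  obtain ⟨inst, F, hF, ⟨e⟩⟩ := Groth.Agent.S0295.result (geomPt K)
  have : GaloisCategory (FEt.Cat (Spec (CommRingCat.of K))) := ⟨⟨F, ⟨hF⟩⟩⟩
  let ε (Y : FEt.Cat (Spec (CommRingCat.of K))) : F.obj Y ≃ (FEt.fiber (geomPt K)).obj Y :=
    (e.app Y).toEquiv
  let f : F.obj E₁ ≃ F.obj E₂ := ((ε E₁).trans (Equiv.ofBijective β hβ)).trans (ε E₂).symm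
  let i : (functorToAction F).obj E₁ ≅ (functorToAction F).obj E₂ :=
    Action.mkIso (FintypeCat.equivEquivIso f) (by
      intro t
      ext s
      have h1 : autEquiv K F e t • ε E₁ s = ε E₁ (t.hom.app E₁ s) := autEquiv_smul K F e t E₁ s
      have h2 : autEquiv K F e t • ε E₂ (f s) = ε E₂ (t.hom.app E₂ (f s)) :=
        autEquiv_smul K F e t E₂ (f s)
      have hf : ∀ s, ε E₂ (f s) = β (ε E₁ s) := fun s => (ε E₂).apply_symm_apply _
      have h3 : f (t.hom.app E₁ s) = t.hom.app E₂ (f s) := by
        apply (ε E₂).injective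
        rw [hf, ← h1, ← h2, hf]
        exact heq _ _
      exact h3)
  exact ⟨(functorToAction F).preimageIso i⟩

end Groth.Agent.Lefpen.H119.GalIso
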