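import Groth.Agent.VarietyA.RegSmoothSch
import Groth.Agent.EtpbcB.TorsionBasic
import Mathlib.Algebra.Polynomial.Laurent
import Mathlib.AlgebraicGeometry.FunctionField
import Mathlib.AlgebraicGeometry.Restrict

/-!
# Auxiliary facts for the global monodromy theorem
-/

set_option autoImplicit false
universe u
open CategoryTheory CategoryTheory.Limits AlgebraicGeometry Opposite

namespace Groth.Agent.Lefpen.H119.GlobAux

theorem smooth_affine (k : Type u) [Field k] (σ : Type) [Finite σ] :
    Smooth (Spec.map (CommRingCat.ofHom (MvPolynomial.C : k →+* MvPolynomial σ k))) := by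
  rw [HasRingHomProperty.Spec_iff (P := @Smooth)]
  have h : Algebra.Smooth k (MvPolynomial σ k) := ⟨inferInstance, inferInstance⟩
  exact RingHom.smooth_algebraMap.2 h

theorem isRegularLocalRing_stalk (k : Type u) [Field k] (σ : Type) [Finite σ]
    (x : Spec (CommRingCat.of (MvPolynomial σ k))) :
    IsRegularLocalRing ((Spec (CommRingCat.of (MvPolynomial σ k))).presheaf.stalk x) := by
  have := smooth_affine k σ
  exact Groth.Agent.VarietyA.RegSmoothSch.isRegularLocalRing_stalk_of_mem_smoothLocus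
    (Spec.map (CommRingCat.ofHom (MvPolynomial.C : k →+* MvPolynomial σ k))) x
    (by rw [Scheme.Hom.smoothLocus_eq_top]; trivial)

theorem isTorsion_const (Y : Scheme.{u}) (N : ℕ) (hN : 0 < N) :
    EtCoh.IsTorsion (EtCoh.const Y (ZMod N)) := by
  have hk : EtCoh.KilledBy N (EtCoh.const Y (ZMod N)) :=
    Groth.Agent.EtpbcB.TorsionBasic.killedBy_const (ZMod N) N
      (fun m => by rw [nsmul_eq_mul, ZMod.natCast_self, zero_mul])
  intro U s x
  refine ⟨U, 𝟙 U, ⟨x, rfl⟩, ?_⟩
  rw [isOfFinAddOrder_iff_nsmul_eq_zero]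
  exact ⟨N, hN, hk U _⟩

theorem connectedSpace_opens {X : Scheme.{u}} [IsIntegral X] (W : X.Opens) (hW : (W : Set X).Nonempty) :
    ConnectedSpace (W : Scheme.{u}) := by
  obtain ⟨x, hx⟩ := hW
  have : Nonempty (W : Scheme.{u}) := ⟨⟨x, hx⟩⟩
  have : IsIntegral (W : Scheme.{u}) := isIntegral_of_isOpenImmersion W.ι
  infer_instance

theorem exists_generic_lift {D : Type u} [CommRing D] [IsDomain D] {L : Type u} [Field L] [Algebra D L]
    [IsFractionRing D L] (W : (Spec (CommRingCat.of D)).Opens) (hW : (W : Set (Spec (CommRingCat.of D))).Nonempty) :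
    ∃ l : Spec (CommRingCat.of L) ⟶ (W : Scheme.{u}),
      l ≫ W.ι = Spec.map (CommRingCat.ofHom (algebraMap D L)) := by
  have hr : Set.range (Spec.map (CommRingCat.ofHom (algebraMap D L))) ⊆ Set.range W.ι := by
    rw [Scheme.Opens.range_ι]
    rintro _ ⟨z, rfl⟩
    obtain ⟨x, hx⟩ := hW
    have key : ∀ (a : PrimeSpectrum L) (b : PrimeSpectrum D),
        PrimeSpectrum.comap (algebraMap D L) a ⤳ b := by
      intro a b
      rw [← PrimeSpectrum.le_iff_specializes]
      intro y hy
      have h3 : a.asIdeal = ⊥ := a.asIdeal.eq_bot_of_prime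
      have h4 : algebraMap D L y ∈ a.asIdeal := hy
      rw [h3, Ideal.mem_bot] at h4
      rw [(IsFractionRing.injective D L) (h4.trans (map_zero _).symm)]
      exact zero_mem _
    have h1 : Spec.map (CommRingCat.ofHom (algebraMap D L)) z ⤳ x := key z x
    exact h1.mem_open W.2 hx
  exact ⟨IsOpenImmersion.lift W.ι _ hr, IsOpenImmersion.lift_fac _ _ _⟩

end Groth.Agent.Lefpen.H119.GlobAux
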