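import Groth.Agent.Lefpen.H119.Cover
import Groth.Agent.Pi1.H384.SplitBasic

/-!
# Split cover: the classes `M • z` are invariant

`rs_eq_self`: if `EM` is split then every `φ : Spec Ω ⟶ Spec Ω` over `S` fixes all classes `M • z`.
-/

set_option autoImplicit false
universe u
open CategoryTheory CategoryTheory.Limits AlgebraicGeometry Opposite
open Groth.Agent.Lefpen.H712.HT Groth.Agent.Lefpen.H916.ThetaDef

namespace Groth.Agent.Lefpen.H119.Inv

open Groth.Agent.Lefpen.H119.Cover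

/-- Points of a split cover lie on sections. -/
theorem exists_section {X : Scheme.{u}} {T : FEt.Cat X} (h : Pi1.IsSplit T) {Ω : Type u} [Field Ω]
    (e : Spec (CommRingCat.of Ω) ⟶ T.left) :
    ∃ s : X ⟶ T.left, (e ≫ T.hom) ≫ s = e := by
  obtain ⟨ι, hι, a, ha⟩ := h
  obtain ⟨⟨i, y⟩, hy⟩ := (sigmaMk (fun _ : ι => X)).surjective ((e ≫ a.hom) default)
  rw [sigmaMk_mk] at hy
  have hr : Set.range (e ≫ a.hom) ⊆ Set.range (Sigma.ι (fun _ : ι => X) i) := by
    rintro _ ⟨z, rfl⟩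
    rw [Subsingleton.elim z default]
    exact ⟨y, hy⟩
  let l : Spec (CommRingCat.of Ω) ⟶ X := IsOpenImmersion.lift (Sigma.ι (fun _ : ι => X) i) (e ≫ a.hom) hr
  have hl : l ≫ Sigma.ι (fun _ : ι => X) i = e ≫ a.hom := IsOpenImmersion.lift_fac _ _ _
  have h1 : e = l ≫ Sigma.ι (fun _ : ι => X) i ≫ a.inv := by
    rw [← Category.assoc, hl, Category.assoc, a.hom_inv_id, Category.comp_id]
  have h2 : e ≫ T.hom = l := by
    rw [h1, Category.assoc, Category.assoc, ha i, Category.comp_id]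
  refine ⟨Sigma.ι (fun _ : ι => X) i ≫ a.inv, ?_⟩
  rw [h2, ← h1]

variable {S Y : Scheme.{u}} {g : Y ⟶ S} {F : EtCoh.Ab Y} {q : ℕ} {U : S.Opens}
  (th : Theta g F q U) {M : ℕ} {EM : FEt.Cat (U : Scheme.{u})} (j : EM ⟶ EE th)

/-- The classes `M • z` are invariant. -/
theorem rs_eq_self (hsp : Pi1.IsSplit EM)
    (h2 : ∀ {Ω : Type u} [Field Ω] [IsSepClosed Ω] (ξ : Spec (CommRingCat.of Ω) ⟶ S)
      (z : HT g F ξ q), ξ default ∈ U → ∃ e' : Spec (CommRingCat.of Ω) ⟶ EM.left,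
        th.rel ξ (e' ≫ j.left) (M • z))
    {Ω : Type u} [Field Ω] [IsSepClosed Ω] (ξ : Spec (CommRingCat.of Ω) ⟶ S) (hξ : ξ default ∈ U)
    (φ : Spec (CommRingCat.of Ω) ⟶ Spec (CommRingCat.of Ω)) (hφ : φ ≫ ξ = ξ) (z : HT g F ξ q) :
    rs g F φ hφ q (M • z) = M • z := by
  obtain ⟨e, he⟩ := h2 ξ z hξ
  obtain ⟨s, hs⟩ := exists_section hsp e
  have h3 : e ≫ EM.hom ≫ U.ι = ξ := by
    rw [← th.over ξ _ _ he, Category.assoc]
    congr 1
    rw [← Category.assoc]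
    exact congrArg (fun a => a ≫ U.ι) (Groth.Agent.Pi1A.FEtAffine.hom_w j).symm
  have h4 : φ ≫ e ≫ EM.hom = e ≫ EM.hom := by
    rw [← cancel_mono U.ι, Category.assoc, Category.assoc, h3, hφ]
  have h5 : φ ≫ e ≫ j.left = e ≫ j.left := by
    have : φ ≫ e = e := by
      conv_lhs => rw [← hs]
      rw [← Category.assoc, h4, hs]
    rw [← Category.assoc, this]
  have h6 : th.rel ξ (e ≫ j.left) (rs g F φ hφ q (M • z)) := by
    have h7 := nat' th φ ξ ξ hφ _ _ he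
    exact (congrArg (fun a => th.rel ξ a (rs g F φ hφ q (M • z))) h5).mp h7
  exact th.unique_z _ _ _ _ h6 he

end Groth.Agent.Lefpen.H119.Inv
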