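import Groth.Agent.Lefpen.H119.Cover
import Groth.Agent.Lefpen.H119.ConstT
import Groth.Agent.Lefpen.H119.GalIso
import Groth.Agent.Pi1A.FEtAffine

/-!
# Isomorphic base changes give isomorphic covers

`nonempty_iso_restrict`: `c₁ c₂ : T ⟶ S` with isomorphic base changes of `g` over `T`, `Spec K ⟶ T` a point with image in
`U` under `c₁` and `c₂`: the two restrictions of `EM` to `Spec K` are isomorphic.
-/

set_option autoImplicit false
universe u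
open CategoryTheory CategoryTheory.Limits AlgebraicGeometry Opposite
open Groth.Agent.Lefpen.H712.HT Groth.Agent.Lefpen.H916.ThetaDef

namespace Groth.Agent.Lefpen.H119.ScaleIso

open Groth.Agent.Lefpen.H119.Cover Groth.Agent.Lefpen.H119.ConstT Groth.Agent.Pi1B.FieldGal
  Groth.Agent.Pi1A Groth.Agent.Pi1A.FEtAffine

/-- `GalIso.nonempty_iso` for a bijective relation. -/
theorem nonempty_iso_of_rel (K : Type u) [Field K] (E₁ E₂ : FEt.Cat (Spec (CommRingCat.of K)))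
    (Q : FEt.fiberObj (geomPt K) E₁ → FEt.fiberObj (geomPt K) E₂ → Prop)
    (h₁ : ∀ s, ∃ s', Q s s') (h₂ : ∀ s', ∃ s, Q s s')
    (h₃ : ∀ s s' s'', Q s s' → Q s s'' → s' = s'') (h₄ : ∀ s s' s'', Q s s'' → Q s' s'' → s = s')
    (h₅ : ∀ (g : Field.absoluteGaloisGroup K) s s', Q s s' → Q (g • s) (g • s')) :
    Nonempty (E₁ ≅ E₂) := by
  choose β hβ using h₁
  refine GalIso.nonempty_iso K E₁ E₂ β ⟨fun a b hab => ?_, fun s' => ?_⟩ (fun g s => ?_)
  · exact h₄ _ _ _ (hβ a) (hab ▸ hβ b)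
  · obtain ⟨s, hs⟩ := h₂ s'
    exact ⟨s, h₃ _ _ _ (hβ s) hs⟩
  · exact h₃ _ _ _ (hβ _) (h₅ g _ _ (hβ s))

variable {S Y : Scheme.{u}} {g : Y ⟶ S} {Λ : Type} [AddCommGroup Λ] {q : ℕ} {U : S.Opens}
  (th : Theta g (EtCoh.const Y Λ) q U) {M : ℕ}
  {EM : FEt.Cat (U : Scheme.{u})} (j : EM ⟶ EE th)

/-- The `Ω`-point of `E` attached to a point of the restriction of `EM`. -/
noncomputable def epnt {K : Type u} [Field K] (t : Spec (CommRingCat.of K) ⟶ (U : Scheme.{u}))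
    (s : FEt.fiberObj (geomPt K) ((FEt.restrict t).obj EM)) :
    Spec (CommRingCat.of (AlgebraicClosure K)) ⟶ th.E :=
  (s.1 ≫ proj t EM) ≫ j.left

theorem point_hom {K : Type u} [Field K] (t : Spec (CommRingCat.of K) ⟶ (U : Scheme.{u}))
    (s : FEt.fiberObj (geomPt K) ((FEt.restrict t).obj EM)) :
    (s.1 ≫ proj t EM) ≫ EM.hom = geomPt K ≫ t := by
  rw [Category.assoc, (FEtAffine.isPullback t EM).w, ← Category.assoc, s.2]

theorem epnt_injective [Mono j.left] {K : Type u} [Field K]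
    (t : Spec (CommRingCat.of K) ⟶ (U : Scheme.{u}))
    {s s' : FEt.fiberObj (geomPt K) ((FEt.restrict t).obj EM)} (h : epnt th j t s = epnt th j t s') :
    s = s' := by
  apply Subtype.ext
  apply (FEtAffine.isPullback t EM).hom_ext
  · exact (cancel_mono j.left).1 h
  · rw [s.2, s'.2]

theorem epnt_smul {K : Type u} [Field K] (t : Spec (CommRingCat.of K) ⟶ (U : Scheme.{u}))
    (σ : Field.absoluteGaloisGroup K)
    (s : FEt.fiberObj (geomPt K) ((FEt.restrict t).obj EM)) :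
    epnt th j t (σ • s) = gSpec K σ ≫ epnt th j t s := by
  rw [epnt, epnt, smul_val, Category.assoc, Category.assoc, Category.assoc]

/-- Points of the restriction of `EM` from classes `M • z`. -/
theorem exists_point (h2 : ∀ {Ω : Type u} [Field Ω] [IsSepClosed Ω] (ξ : Spec (CommRingCat.of Ω) ⟶ S)
      (z : HT g (EtCoh.const Y Λ) ξ q), ξ default ∈ U → ∃ e' : Spec (CommRingCat.of Ω) ⟶ EM.left,
        th.rel ξ (e' ≫ j.left) (M • z))
    {K : Type u} [Field K] (t : Spec (CommRingCat.of K) ⟶ (U : Scheme.{u}))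
    (ξ : Spec (CommRingCat.of (AlgebraicClosure K)) ⟶ S) (hξ : geomPt K ≫ t ≫ U.ι = ξ)
    (z : HT g (EtCoh.const Y Λ) ξ q) :
    ∃ s : FEt.fiberObj (geomPt K) ((FEt.restrict t).obj EM), th.rel ξ (epnt th j t s) (M • z) := by
  have hU : ξ default ∈ U := by
    rw [← hξ, ← Category.assoc]
    exact ((geomPt K ≫ t) default).2
  obtain ⟨e', he'⟩ := h2 ξ z hU
  have h3 : e' ≫ EM.hom = geomPt K ≫ t := by
    rw [← cancel_mono U.ι, Category.assoc, Category.assoc, hξ, ← th.over ξ _ _ he', Category.assoc]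
    congr 1
    rw [← Category.assoc]
    exact congrArg (fun a => a ≫ U.ι) (FEtAffine.hom_w j).symm
  refine ⟨⟨(FEtAffine.isPullback t EM).lift e' (geomPt K) h3, IsPullback.lift_snd _ _ _ _⟩, ?_⟩
  have h4 : (FEtAffine.isPullback t EM).lift e' (geomPt K) h3 ≫ proj t EM = e' :=
    IsPullback.lift_fst _ _ _ _
  rw [epnt, h4]
  exact he'

/-- Classes attached to the points of the restriction of `EM`. -/
theorem exists_class (h1 : ∀ {Ω : Type u} [Field Ω] [IsSepClosed Ω] (e : Spec (CommRingCat.of Ω) ⟶ EM.left),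
      ∃ z, th.rel (e ≫ EM.hom ≫ U.ι) (e ≫ j.left) (M • z))
    {K : Type u} [Field K] (t : Spec (CommRingCat.of K) ⟶ (U : Scheme.{u}))
    (ξ : Spec (CommRingCat.of (AlgebraicClosure K)) ⟶ S) (hξ : geomPt K ≫ t ≫ U.ι = ξ)
    (s : FEt.fiberObj (geomPt K) ((FEt.restrict t).obj EM)) :
    ∃ z : HT g (EtCoh.const Y Λ) ξ q, th.rel ξ (epnt th j t s) (M • z) := by
  have h := h1 (s.1 ≫ proj t EM)
  have h3 : (s.1 ≫ proj t EM) ≫ EM.hom ≫ U.ι = ξ := by
    rw [← Category.assoc, point_hom, Category.assoc, hξ]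
  rw [h3] at h
  exact h

/-- The two restrictions of `EM` are isomorphic. -/
theorem nonempty_iso_restrict [Mono j.left]
    (h1 : ∀ {Ω : Type u} [Field Ω] [IsSepClosed Ω] (e : Spec (CommRingCat.of Ω) ⟶ EM.left),
      ∃ z, th.rel (e ≫ EM.hom ≫ U.ι) (e ≫ j.left) (M • z))
    (h2 : ∀ {Ω : Type u} [Field Ω] [IsSepClosed Ω] (ξ : Spec (CommRingCat.of Ω) ⟶ S)
      (z : HT g (EtCoh.const Y Λ) ξ q), ξ default ∈ U → ∃ e' : Spec (CommRingCat.of Ω) ⟶ EM.left,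
        th.rel ξ (e' ≫ j.left) (M • z))
    {T : Scheme.{u}} (c₁ c₂ : T ⟶ S) (e : pullback g c₁ ≅ pullback g c₂)
    (he : e.hom ≫ pullback.snd g c₂ = pullback.snd g c₁)
    {K : Type u} [Field K] (v : Spec (CommRingCat.of K) ⟶ T)
    (t₁ t₂ : Spec (CommRingCat.of K) ⟶ (U : Scheme.{u})) (ht₁ : t₁ ≫ U.ι = v ≫ c₁)
    (ht₂ : t₂ ≫ U.ι = v ≫ c₂) :
    Nonempty ((FEt.restrict t₁).obj EM ≅ (FEt.restrict t₂).obj EM) := by
  obtain ⟨ψ, hψ, hnat⟩ := exists_psi g Λ c₁ c₂ e he q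
  let w : Spec (CommRingCat.of (AlgebraicClosure K)) ⟶ T := geomPt K ≫ v
  have hξ₁ : geomPt K ≫ t₁ ≫ U.ι = w ≫ c₁ := by rw [ht₁, ← Category.assoc]
  have hξ₂ : geomPt K ≫ t₂ ≫ U.ι = w ≫ c₂ := by rw [ht₂, ← Category.assoc]
  refine nonempty_iso_of_rel K _ _ (fun s s' => ∃ z : HT g (EtCoh.const Y Λ) (w ≫ c₁) q,
    th.rel (w ≫ c₁) (epnt th j t₁ s) z ∧ th.rel (w ≫ c₂) (epnt th j t₂ s') (ψ w z)) ?_ ?_ ?_ ?_ ?_
  · intro s
    obtain ⟨z, hz⟩ := exists_class th j h1 t₁ (w ≫ c₁) hξ₁ s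
    obtain ⟨s', hs'⟩ := exists_point th j h2 t₂ (w ≫ c₂) hξ₂ (ψ w z)
    refine ⟨s', M • z, hz, ?_⟩
    rw [map_nsmul]
    exact hs'
  · intro s'
    obtain ⟨z', hz'⟩ := exists_class th j h1 t₂ (w ≫ c₂) hξ₂ s'
    obtain ⟨z, rfl⟩ := (hψ w).2 z'
    obtain ⟨s, hs⟩ := exists_point th j h2 t₁ (w ≫ c₁) hξ₁ z
    refine ⟨s, M • z, hs, ?_⟩
    rw [map_nsmul]
    exact hz'
  · rintro s s' s'' ⟨z, h3, h4⟩ ⟨z', h5, h6⟩
    obtain rfl := th.unique_z _ _ _ _ h3 h5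
    exact epnt_injective th j t₂ (th.unique_e _ _ _ _ h4 h6)
  · rintro s s' s'' ⟨z, h3, h4⟩ ⟨z', h5, h6⟩
    obtain rfl := (hψ w).1 (th.unique_z _ _ _ _ h4 h6)
    exact epnt_injective th j t₁ (th.unique_e _ _ _ _ h3 h5)
  · rintro σ s s' ⟨z, h3, h4⟩
    have hw : gSpec K σ ≫ w = w := by
      change gSpec K σ ≫ geomPt K ≫ v = geomPt K ≫ v
      rw [← Category.assoc, gSpec_comp]
    have hw₁ : gSpec K σ ≫ w ≫ c₁ = w ≫ c₁ := by rw [← Category.assoc, hw]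
    have hw₂ : gSpec K σ ≫ w ≫ c₂ = w ≫ c₂ := by rw [← Category.assoc, hw]
    refine ⟨rs g (EtCoh.const Y Λ) (gSpec K σ) hw₁ q z, ?_, ?_⟩
    · rw [epnt_smul]
      exact nat' th (gSpec K σ) _ _ hw₁ _ _ h3
    · rw [epnt_smul, ← hnat w w (gSpec K σ) hw z]
      exact nat' th (gSpec K σ) _ _ hw₂ _ _ h4

end Groth.Agent.Lefpen.H119.ScaleIso
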