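import Groth.Agent.Lefpen.H712.HT
import Groth.Agent.Etcore.LimBC1
import Groth.Agent.Etcore.Torsion
import Groth.Agent.Sga4A.HensFibre
import Groth.Agent.EtpbcB.HpullField

/-!
# Proper base change for `HT`

`f : X ⟶ Y` proper, `F` torsion on `X`: `rs f F c` is bijective for
* `c` the closed point of a henselian local ring (`rs_bijective_residue`);
* `c : Spec K ⟶ Spec k` an extension of separably closed fields (`rs_bijective_field`);
* `c : Spec Ω ⟶ Spec R` a geometric point over the closed point of a strictly henselian local ring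
  (`rs_bijective_closed`);
* `c : Spec R' ⟶ Spec R` a local homomorphism of strictly henselian local rings (`rs_bijective_local`).
-/

set_option autoImplicit false
universe u
open CategoryTheory CategoryTheory.Limits AlgebraicGeometry Opposite Abelian
open scoped Groth.Agent.Etcore.EtInst
open Groth.Agent.Etcore.EtInst

namespace Groth.Agent.Lefpen.H119.ThetaBC

open Groth.Agent.Etcore.HQ Groth.Agent.Etcore.HpullCalc Groth.Agent.Lefpen.H712.HT
  Groth.Agent.Etcore

attribute [local instance] pfl

variable {X Y : Scheme.{u}} (f : X ⟶ Y)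

/-- The square of `bm`. -/
theorem isPullback_bm {T T' : Scheme.{u}} {t : T ⟶ Y} {t' : T' ⟶ Y} (φ : T' ⟶ T) (h : φ ≫ t = t') :
    IsPullback (bm f φ h) (pullback.snd f t') (pullback.snd f t) φ := by
  have h1 : IsPullback (pullback.fst f t) (pullback.snd f t) f t := IsPullback.of_hasPullback _ _
  have h2 : IsPullback (bm f φ h ≫ pullback.fst f t) (pullback.snd f t') f (φ ≫ t) := by
    rw [bm_fst]
    subst h
    exact IsPullback.of_hasPullback _ _
  exact IsPullback.of_right h2 (bm_snd f φ h) h1

/-- Bijectivity of `rs` from bijectivity of `Hpull`. -/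
theorem rs_bijective_of (F : EtCoh.Ab X) {T T' : Scheme.{u}} {t : T ⟶ Y} {t' : T' ⟶ Y} (φ : T' ⟶ T)
    (h : φ ≫ t = t') (n : ℕ)
    (hb : Function.Bijective (hp (bm f φ h) ((EtCoh.pull (pullback.fst f t)).obj F) n)) :
    Function.Bijective (rs f F φ h n) := by
  have h1 : ⇑(rs f F φ h n) = ⇑(hpVia (bm f φ h) (pullback.fst f t) (pullback.fst f t') (bm_fst f φ h) F n) :=
    funext fun x => LimBC1.res_eq_hpVia F (bm f φ h) (bm_fst f φ h) n x
  rw [h1]
  exact (bijective_hpVia_iff _ _ _ _ F n).2 hb

variable {F : EtCoh.Ab X} [IsProper f]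

/-- The closed point of a henselian local ring. -/
theorem rs_bijective_residue (hF : EtCoh.IsTorsion F) {R : Type u} [CommRing R] [HenselianLocalRing R]
    {t : Spec (CommRingCat.of R) ⟶ Y} {t' : Spec (CommRingCat.of (IsLocalRing.ResidueField R)) ⟶ Y}
    (h : Spec.map (CommRingCat.ofHom (IsLocalRing.residue R)) ≫ t = t') (n : ℕ) :
    Function.Bijective (rs f F (Spec.map (CommRingCat.ofHom (IsLocalRing.residue R))) h n) := by
  apply rs_bijective_of
  have : HenselianRing R (IsLocalRing.maximalIdeal R) := inferInstance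
  exact Groth.Agent.Sga4A.HensFibre.Hpull_proper R (IsLocalRing.maximalIdeal R) (pullback.snd f t)
    (bm f (Spec.map (CommRingCat.ofHom (IsLocalRing.residue R))) h)
    (pullback.snd f t') (isPullback_bm f _ h) _ (Torsion.isTorsion_pull _ F hF) n

/-- Extensions of separably closed fields. -/
theorem rs_bijective_field (hF : EtCoh.IsTorsion F) {k K : Type u} [Field k] [IsSepClosed k] [Field K]
    [IsSepClosed K] (φ : k →+* K)
    {t : Spec (CommRingCat.of k) ⟶ Y} {t' : Spec (CommRingCat.of K) ⟶ Y}
    (h : Spec.map (CommRingCat.ofHom φ) ≫ t = t') (n : ℕ) :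
    Function.Bijective (rs f F (Spec.map (CommRingCat.ofHom φ)) h n) := by
  apply rs_bijective_of
  exact Groth.Agent.EtpbcB.HpullField.bijective_Hpull φ (pullback.snd f t)
    (bm f (Spec.map (CommRingCat.ofHom φ)) h)
    (pullback.snd f t') (isPullback_bm f _ h) _ (Torsion.isTorsion_pull _ F hF) n

omit [IsProper f] in
/-- A morphism `Spec Ω ⟶ Spec R` over the closed point factors through the residue field. -/
theorem exists_factor {R : Type u} [CommRing R] [IsLocalRing R] {Ω : Type u} [Field Ω]
    (c : Spec (CommRingCat.of Ω) ⟶ Spec (CommRingCat.of R))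
    (hc : c default = IsLocalRing.closedPoint R) :
    ∃ φ : IsLocalRing.ResidueField R →+* Ω,
      Spec.map (CommRingCat.ofHom φ) ≫ Spec.map (CommRingCat.ofHom (IsLocalRing.residue R)) = c := by
  obtain ⟨ρ, rfl⟩ : ∃ ρ : R →+* Ω, Spec.map (CommRingCat.ofHom ρ) = c :=
    ⟨(Spec.preimage c).hom, Spec.map_preimage c⟩
  have hloc : IsLocalHom ρ := by
    refine ⟨fun x hx => ?_⟩
    by_contra hn
    have h1 : x ∈ (IsLocalRing.closedPoint R).asIdeal := hn
    rw [← hc] at h1
    have h2 : ρ x ∈ PrimeSpectrum.asIdeal (default : ↥(Spec (CommRingCat.of Ω))) := h1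
    exact (PrimeSpectrum.isPrime (default : ↥(Spec (CommRingCat.of Ω)))).ne_top
      (Ideal.eq_top_of_isUnit_mem _ h2 hx)
  refine ⟨IsLocalRing.ResidueField.lift ρ, ?_⟩
  rw [← Spec.map_comp, ← CommRingCat.ofHom_comp]
  rfl

/-- Geometric points over the closed point of a strictly henselian local ring. -/
theorem rs_bijective_closed (hF : EtCoh.IsTorsion F) {R : Type u} [CommRing R] [HenselianLocalRing R]
    [IsSepClosed (IsLocalRing.ResidueField R)] {Ω : Type u} [Field Ω] [IsSepClosed Ω]
    (c : Spec (CommRingCat.of Ω) ⟶ Spec (CommRingCat.of R))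
    (hc : c default = IsLocalRing.closedPoint R)
    {t : Spec (CommRingCat.of R) ⟶ Y} {t' : Spec (CommRingCat.of Ω) ⟶ Y} (h : c ≫ t = t') (n : ℕ) :
    Function.Bijective (rs f F c h n) := by
  obtain ⟨φ, rfl⟩ := exists_factor c hc
  have h1 := rs_bijective_residue f hF (R := R) (t := t) rfl n
  have h2 := rs_bijective_field f hF φ (t := Spec.map (CommRingCat.ofHom (IsLocalRing.residue R)) ≫ t)
    (t' := t') (by rw [← Category.assoc]; exact h) n
  have h3 : ⇑(rs f F (Spec.map (CommRingCat.ofHom φ) ≫
      Spec.map (CommRingCat.ofHom (IsLocalRing.residue R))) h n) =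
      ⇑(rs f F (Spec.map (CommRingCat.ofHom φ)) (t := Spec.map (CommRingCat.ofHom (IsLocalRing.residue R)) ≫ t)
        (t' := t') (by rw [← Category.assoc]; exact h) n) ∘
      ⇑(rs f F (Spec.map (CommRingCat.ofHom (IsLocalRing.residue R))) (t := t) rfl n) :=
    funext fun x => (rs_rs f F _ _ _ _ _ rfl _ n x).symm
  rw [h3]
  exact h2.comp h1

/-- Local homomorphisms of strictly henselian local rings. -/
theorem rs_bijective_local (hF : EtCoh.IsTorsion F) {R R' : Type u} [CommRing R] [HenselianLocalRing R]
    [IsSepClosed (IsLocalRing.ResidueField R)] [CommRing R'] [HenselianLocalRing R']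
    [IsSepClosed (IsLocalRing.ResidueField R')] (g : R →+* R') [IsLocalHom g]
    {t : Spec (CommRingCat.of R) ⟶ Y} {t' : Spec (CommRingCat.of R') ⟶ Y}
    (h : Spec.map (CommRingCat.ofHom g) ≫ t = t') (n : ℕ) :
    Function.Bijective (rs f F (Spec.map (CommRingCat.ofHom g)) h n) := by
  have h1 := rs_bijective_residue f hF (R := R') (t := t') rfl n
  have hc : (Spec.map (CommRingCat.ofHom (IsLocalRing.residue R')) ≫ Spec.map (CommRingCat.ofHom g))
      default = IsLocalRing.closedPoint R := by
    have e1 : (Spec.map (CommRingCat.ofHom (IsLocalRing.residue R'))) default =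
        IsLocalRing.closedPoint R' := by
      have key : ∀ y : PrimeSpectrum (IsLocalRing.ResidueField R'),
          PrimeSpectrum.comap (IsLocalRing.residue R') y = IsLocalRing.closedPoint R' := by
        intro y
        have h3 : y.asIdeal = ⊥ := y.asIdeal.eq_bot_of_prime
        apply PrimeSpectrum.ext
        rw [PrimeSpectrum.comap_asIdeal, h3]
        exact IsLocalRing.ker_residue (R := R')
      exact key (default : ↥(Spec (CommRingCat.of (IsLocalRing.ResidueField R'))))
    rw [Scheme.Hom.comp_apply, e1]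
    exact IsLocalRing.comap_closedPoint g
  have h2 := rs_bijective_closed f hF
    (Spec.map (CommRingCat.ofHom (IsLocalRing.residue R')) ≫ Spec.map (CommRingCat.ofHom g)) hc
    (t := t) (t' := Spec.map (CommRingCat.ofHom (IsLocalRing.residue R')) ≫ t')
    (by rw [Category.assoc, h]) n
  have h3 : ⇑(rs f F (Spec.map (CommRingCat.ofHom (IsLocalRing.residue R')) ≫
      Spec.map (CommRingCat.ofHom g)) (t := t)
      (t' := Spec.map (CommRingCat.ofHom (IsLocalRing.residue R')) ≫ t')
      (by rw [Category.assoc, h]) n) =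
      ⇑(rs f F (Spec.map (CommRingCat.ofHom (IsLocalRing.residue R'))) (t := t') rfl n) ∘
      ⇑(rs f F (Spec.map (CommRingCat.ofHom g)) h n) :=
    funext fun x => (rs_rs f F _ _ _ _ _ rfl _ n x).symm
  rw [h3] at h2
  exact (Function.Bijective.of_comp_iff' h1 _).1 h2

end Groth.Agent.Lefpen.H119.ThetaBC
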