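import Groth.Agent.Lefpen.H712.HT
import Groth.Agent.Etcore.LimH
import Mathlib.CategoryTheory.Presentable.Directed

/-!
# Classes over a cofiltered limit of `Y`-schemes

`T = lim T_i` with affine transition maps: every class of `HT f F t n` comes from some `HT f F (τ i) n`
(`exists_of_cofiltered`), and a class of `HT f F (τ i) n` dying in the limit dies at a later stage
(`exists_zero_of_cofiltered`).
-/

set_option autoImplicit false
universe u
open CategoryTheory CategoryTheory.Limits AlgebraicGeometry Opposite Abelian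
open scoped Groth.Agent.Etcore.EtInst
open Groth.Agent.Etcore.EtInst

namespace Groth.Agent.Lefpen.H119.NbLim

open Groth.Agent.Etcore.HQ Groth.Agent.Etcore.HpullCalc Groth.Agent.Lefpen.H712.HT
  Groth.Agent.Etcore Groth.Agent.Etcore.PullbackLim Groth.Agent.Etcore.HpVia

attribute [local instance] S0101.result

section Poset

variable {ι : Type u} [Preorder ι]
  (T : ιᵒᵖ ⥤ Scheme.{u}) {Y X : Scheme.{u}}
  (τ : ∀ a : ιᵒᵖ, T.obj a ⟶ Y) (hτ : ∀ ⦃a b : ιᵒᵖ⦄ (h : a ⟶ b), T.map h ≫ τ b = τ a) (f : X ⟶ Y)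
  (c : Cone T) (t : c.pt ⟶ Y) (ht : ∀ a, c.π.app a ≫ τ a = t)
  (F : EtCoh.Ab X) (n : ℕ)

theorem hpVia_proj (a : ιᵒᵖ) (x : HT f F (τ a) n) :
    hpVia (proj T τ f c t ht a) (pullback.fst f (τ a)) (pullback.fst f t)
      (proj_fst T τ f c t ht a) F n x = rs f F (c.π.app a) (ht a) n x := by
  rw [hpVia_eq]
  rfl

theorem hpVia_mapp {a b : ιᵒᵖ} (h : a ⟶ b) (x : HT f F (τ b) n) :
    hpVia (mapp T τ hτ f h) (pullback.fst f (τ b)) (pullback.fst f (τ a))
      (mapp_fst T τ hτ f h) F n x = rs f F (T.map h) (hτ h) n x := by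
  rw [hpVia_eq]
  rfl

end Poset

section Dir

variable {ι : Type u} [Preorder ι] [IsDirected ι (· ≤ ·)] [Nonempty ι]
  (T : ιᵒᵖ ⥤ Scheme.{u}) {Y X : Scheme.{u}}
  (τ : ∀ a : ιᵒᵖ, T.obj a ⟶ Y) (hτ : ∀ ⦃a b : ιᵒᵖ⦄ (h : a ⟶ b), T.map h ≫ τ b = τ a) (f : X ⟶ Y)
  [QuasiCompact f] [QuasiSeparated f]
  (c : Cone T) (hc : IsLimit c) (t : c.pt ⟶ Y) (ht : ∀ a, c.π.app a ≫ τ a = t)
  (haff : ∀ ⦃a b : ιᵒᵖ⦄ (h : a ⟶ b), IsAffineHom (T.map h))
  (hqc : ∀ a, CompactSpace ↥(T.obj a)) (hqs : ∀ a, QuasiSeparatedSpace ↥(T.obj a))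
  (F : EtCoh.Ab X) (n : ℕ)

include hτ hc haff hqc hqs

theorem exists_of_dir (x : HT f F t n) : ∃ (i : ιᵒᵖ) (y : HT f F (τ i) n),
    rs f F (c.π.app i) (ht i) n y = x := by
  obtain ⟨j, -, y, hy⟩ := LimH.exists_of_pullbackLim T τ hτ f c hc t ht haff hqc hqs F n
    (Classical.arbitrary ι) x
  exact ⟨op j, y, (hpVia_proj T τ f c t ht F n (op j) y).symm.trans hy⟩

theorem exists_zero_of_dir (j : ι) (y : HT f F (τ (op j)) n)
    (hy : rs f F (c.π.app (op j)) (ht (op j)) n y = 0) :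
    ∃ (k : ι) (h : j ≤ k), rs f F (T.map (homOfLE h).op) (hτ _) n y = 0 := by
  obtain ⟨k, h, h1⟩ := LimH.exists_zero_of_pullbackLim T τ hτ f c hc t ht haff hqc hqs F n j y
    ((hpVia_proj T τ f c t ht F n (op j) y).trans hy)
  exact ⟨k, h, (hpVia_mapp T τ hτ f F n (homOfLE h).op y).symm.trans h1⟩

end Dir

variable {I : Type u} [SmallCategory I] [IsCofiltered I]
  (D : I ⥤ Scheme.{u}) {Y X : Scheme.{u}}
  (τ : ∀ a : I, D.obj a ⟶ Y) (hτ : ∀ ⦃a b : I⦄ (h : a ⟶ b), D.map h ≫ τ b = τ a) (f : X ⟶ Y)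
  [QuasiCompact f] [QuasiSeparated f]
  (c : Cone D) (hc : IsLimit c) (t : c.pt ⟶ Y) (ht : ∀ a, c.π.app a ≫ τ a = t)
  (haff : ∀ ⦃a b : I⦄ (h : a ⟶ b), IsAffineHom (D.map h))
  (hqc : ∀ a, CompactSpace ↥(D.obj a)) (hqs : ∀ a, QuasiSeparatedSpace ↥(D.obj a))
  (F : EtCoh.Ab X) (n : ℕ)

include hτ hc haff hqc hqs

/-- Every class on the limit comes from some stage. -/
theorem exists_of_cofiltered (x : HT f F t n) : ∃ (i : I) (y : HT f F (τ i) n),
    rs f F (c.π.app i) (ht i) n y = x := by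
  obtain ⟨α, _, _, _, G, _⟩ := IsFiltered.exists_directed Iᵒᵖ
  have : G.leftOp.Initial := inferInstance
  have hc' : IsLimit (c.whisker G.leftOp) := (Functor.Initial.isLimitWhiskerEquiv G.leftOp c).symm hc
  obtain ⟨j, y, hy⟩ := exists_of_dir (G.leftOp ⋙ D) (fun a => τ (G.leftOp.obj a))
    (fun _ _ h => hτ (G.leftOp.map h)) f (c.whisker G.leftOp) hc' t (fun a => ht (G.leftOp.obj a))
    (fun _ _ h => haff (G.leftOp.map h)) (fun _ => hqc _) (fun _ => hqs _) F n x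
  exact ⟨G.leftOp.obj j, y, hy⟩

/-- A class at some stage dying on the limit dies at a later stage. -/
theorem exists_zero_of_cofiltered (i : I) (y : HT f F (τ i) n) (hy : rs f F (c.π.app i) (ht i) n y = 0) :
    ∃ (k : I) (g : k ⟶ i), rs f F (D.map g) (hτ g) n y = 0 := by
  obtain ⟨α, _, _, _, G, _⟩ := IsFiltered.exists_directed Iᵒᵖ
  have : G.leftOp.Initial := inferInstance
  have hc' : IsLimit (c.whisker G.leftOp) := (Functor.Initial.isLimitWhiskerEquiv G.leftOp c).symm hc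
  obtain ⟨l⟩ : Nonempty (CostructuredArrow G.leftOp i) := inferInstance
  have h1 : rs f F (c.π.app (G.leftOp.obj l.left)) (ht _) n (rs f F (D.map l.hom) (hτ l.hom) n y) = 0 := by
    rw [rs_rs f F (D.map l.hom) (hτ l.hom) (c.π.app (G.leftOp.obj l.left)) (ht _) (c.π.app i)
      (c.w l.hom) (ht i) n y]
    exact hy
  obtain ⟨k, h, h2⟩ := exists_zero_of_dir (G.leftOp ⋙ D) (fun a => τ (G.leftOp.obj a))
    (fun _ _ h => hτ (G.leftOp.map h)) f (c.whisker G.leftOp) hc' t (fun a => ht (G.leftOp.obj a))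
    (fun _ _ h => haff (G.leftOp.map h)) (fun _ => hqc _) (fun _ => hqs _) F n l.left.unop
    (rs f F (D.map l.hom) (hτ l.hom) n y) h1
  refine ⟨G.leftOp.obj (op k), G.leftOp.map (homOfLE h).op ≫ l.hom, ?_⟩
  rw [← h2]
  exact (rs_rs f F (D.map l.hom) (hτ l.hom) (D.map (G.leftOp.map (homOfLE h).op)) (hτ _)
    (D.map (G.leftOp.map (homOfLE h).op ≫ l.hom)) (D.map_comp _ _).symm (hτ _) n y).symm

end Groth.Agent.Lefpen.H119.NbLim
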