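import Groth.Agent.Lefpen.H119.NbLim
import Groth.Agent.Lefpen.H119.ThetaBC
import Groth.Agent.Lefpen.H916.ThetaDef
import Groth.Agent.EtpbcB.StrictLoc
import Groth.Agent.EtpbcB.OshHens

/-!
# Classes over a strictly henselian local `S`-scheme and étale `S`-schemes

`nbSurj`, `nbInj` for `g` proper and `F` torsion.
-/

set_option autoImplicit false
universe u
open CategoryTheory CategoryTheory.Limits AlgebraicGeometry Opposite
open Groth.Agent.Lefpen.H712.HT Groth.Agent.Lefpen.H916.ThetaDef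

namespace Groth.Agent.Lefpen.H119.NbPf

open IsLocalRing Groth.Agent.EtpbcB Groth.Agent.EtpbcB.StrictLoc Groth.Agent.Etrest.StrictLoc

/-- A morphism `γ : Spec R ⟶ S` with `R` strictly henselian factors through the strict localization of `S` at the
closed geometric point by a local homomorphism. -/
theorem exists_fac' {S : Scheme.{u}} {R : Type u} [CommRing R] [HenselianLocalRing R]
    (γ : Spec (CommRingCat.of R) ⟶ S) {Ω : Type u} [Field Ω] [IsSepClosed Ω] (ξ : Spec (CommRingCat.of Ω) ⟶ S)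
    (e : Ω →+* ResidueField R) (he : spm e ≫ ξ = resPt R ≫ γ) :
    ∃ (δ : Osh ξ →+* R) (_ : IsLocalHom δ), Spec.map (CommRingCat.ofHom δ) ≫ toBase ξ = γ := by
  obtain ⟨τ, hτ⟩ := @ThetaBC.exists_factor (Osh ξ) _ inferInstance Ω _ (pt ξ) (pt_default ξ)
  have h1 : spm (e.comp τ) ≫ resPt (Osh ξ) ≫ toBase ξ = resPt R ≫ γ := by
    have h2 : spm τ ≫ resPt (Osh ξ) ≫ toBase ξ = ξ := by
      rw [← Category.assoc]
      exact (congrArg (fun z => z ≫ toBase ξ) hτ).trans (pt_toBase ξ)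
    rw [spm_comp, Category.assoc, h2, he]
  obtain ⟨δ, ⟨h2, h3⟩, -⟩ := (OshHens.isStrictLoc_toBase ξ).universal R γ (e.comp τ) h1
  exact ⟨δ, isLocalHom_of_residue δ (e.comp τ) h3, h2⟩

/-- The closed geometric point. -/
theorem exists_fac {S : Scheme.{u}} {R : Type u} [CommRing R] [HenselianLocalRing R]
    [IsSepClosed (ResidueField R)] (γ : Spec (CommRingCat.of R) ⟶ S) :
    ∃ (Ω : Type u) (_ : Field Ω) (_ : IsSepClosed Ω) (ξ : Spec (CommRingCat.of Ω) ⟶ S)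
      (δ : Osh ξ →+* R) (_ : IsLocalHom δ), Spec.map (CommRingCat.ofHom δ) ≫ toBase ξ = γ := by
  refine ⟨ResidueField R, inferInstance, inferInstance, resPt R ≫ γ, ?_⟩
  refine exists_fac' γ _ (RingHom.id _) ?_
  have h1 : spm (RingHom.id (ResidueField R)) = 𝟙 _ := Spec.map_id _
  rw [h1, Category.id_comp]

section

variable {S T Y : Scheme.{u}} (g : Y ⟶ S) [QuasiCompact g] [QuasiSeparated g] (F : EtCoh.Ab Y) (q : ℕ)
  (t : T ⟶ S) {Ω : Type u} [Field Ω] [IsSepClosed Ω] (ξ : Spec (CommRingCat.of Ω) ⟶ T)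

theorem isAffineHom_DS ⦃i j : Idx ξ⦄ (h : i ⟶ j) : IsAffineHom ((DS ξ).map h) := by
  have h1 : IsAffine ((DS ξ).obj i) := isAffine_D ξ i
  have h2 : IsAffine ((DS ξ).obj j) := isAffine_D ξ j
  infer_instance

theorem compactSpace_DS (i : Idx ξ) : CompactSpace ↥((DS ξ).obj i) := by
  have h1 : IsAffine ((DS ξ).obj i) := isAffine_D ξ i
  infer_instance

theorem quasiSeparatedSpace_DS (i : Idx ξ) : QuasiSeparatedSpace ↥((DS ξ).obj i) := by
  have h1 : IsAffine ((DS ξ).obj i) := isAffine_D ξ i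
  infer_instance

/-- Classes over the strict localization come from étale neighbourhoods. -/
theorem exists_of_toBase {Ω : Type u} [Field Ω] [IsSepClosed Ω] (ξ : Spec (CommRingCat.of Ω) ⟶ S)
    (x : HT g F (toBase ξ) q) :
    ∃ (i : Idx ξ) (y : HT g F ((D ξ).obj i).hom q), rs g F (leg ξ i) (leg_hom ξ i) q y = x :=
  NbLim.exists_of_cofiltered (DS ξ) (fun i => ((D ξ).obj i).hom) (fun _ _ h => Over.w ((D ξ).map h).hom) g
    (cone ξ) (isLimitCone ξ) (toBase ξ) (fun i => leg_hom ξ i)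
    (isAffineHom_DS ξ) (compactSpace_DS ξ) (quasiSeparatedSpace_DS ξ) F q x

/-- Classes dying over the strict localization die in an étale neighbourhood. -/
theorem exists_zero_of_toBase (y : HT g F t q) (hy : rs g F (toBase ξ) rfl q y = 0) :
    ∃ (i : Idx ξ), rs g F ((D ξ).obj i).hom rfl q y = 0 := by
  have h1 : rs g F (leg ξ (i₀ ξ)) (leg_hom_assoc ξ (i₀ ξ) t) q (rs g F ((D ξ).obj (i₀ ξ)).hom rfl q y) = 0 := by
    rw [← hy]
    exact rs_rs g F ((D ξ).obj (i₀ ξ)).hom rfl (leg ξ (i₀ ξ)) (leg_hom_assoc ξ (i₀ ξ) t) (toBase ξ)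
      (leg_hom ξ (i₀ ξ)) rfl q y
  obtain ⟨k, a, h2⟩ := NbLim.exists_zero_of_cofiltered (DS ξ) (fun i => ((D ξ).obj i).hom ≫ t)
    (fun _ _ h => (Category.assoc _ _ _).symm.trans (congrArg (· ≫ t) (Over.w ((D ξ).map h).hom))) g
    (cone ξ) (isLimitCone ξ) (toBase ξ ≫ t) (fun i => leg_hom_assoc ξ i t)
    (isAffineHom_DS ξ) (compactSpace_DS ξ) (quasiSeparatedSpace_DS ξ) F q (i₀ ξ)
    (rs g F ((D ξ).obj (i₀ ξ)).hom rfl q y) h1
  exact ⟨k, (rs_rs g F ((D ξ).obj (i₀ ξ)).hom rfl ((DS ξ).map a) _ ((D ξ).obj k).hom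
    (Over.w ((D ξ).map a).hom) rfl q y).symm.trans h2⟩

end

variable {S Y : Scheme.{u}} (g : Y ⟶ S) [IsProper g] (F : EtCoh.Ab Y) (hF : EtCoh.IsTorsion F) (q : ℕ)

include hF in
/-- Classes over a strictly henselian local `S`-scheme come from étale `S`-schemes. -/
theorem nbSurj : NbSurj g F q := by
  intro R _ _ hR γ x
  obtain ⟨hR1, hR2⟩ := hR
  obtain ⟨Ω, _, _, ξ, δ, hδl, hδ⟩ := exists_fac γ
  obtain ⟨x', hx'⟩ := (ThetaBC.rs_bijective_local g hF δ (t := toBase ξ) (t' := γ) hδ q).2 x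
  obtain ⟨i, y, hy⟩ := exists_of_toBase g F q ξ x'
  have h1 : (Spec.map (CommRingCat.ofHom δ) ≫ leg ξ i) ≫ ((D ξ).obj i).hom = γ :=
    (Category.assoc _ _ _).trans ((congrArg (Spec.map (CommRingCat.ofHom δ) ≫ ·) (leg_hom ξ i)).trans hδ)
  refine ⟨(D ξ).obj i, Spec.map (CommRingCat.ofHom δ) ≫ leg ξ i, h1, y, ?_⟩
  refine (rs_rs g F (leg ξ i) (leg_hom ξ i) (Spec.map (CommRingCat.ofHom δ)) hδ
    (Spec.map (CommRingCat.ofHom δ) ≫ leg ξ i) rfl h1 q y).symm.trans ?_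
  exact (congrArg (fun z => rs g F (Spec.map (CommRingCat.ofHom δ)) hδ q z) hy).trans hx'

include hF in
/-- Classes over an étale `S`-scheme dying over a strictly henselian local `S`-scheme die on a smaller étale
`S`-scheme. -/
theorem nbInj : NbInj g F q := by
  intro R _ _ hR γ V γ' h y hy
  obtain ⟨hR1, hR2⟩ := hR
  obtain ⟨Ω, _, _, ξ, δ, hδl, hδ⟩ := exists_fac γ'
  have hδ' : Spec.map (CommRingCat.ofHom δ) ≫ toBase ξ ≫ V.hom = γ := by rw [← Category.assoc, hδ, h]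
  have hb := (ThetaBC.rs_bijective_local g hF δ (t := toBase ξ ≫ V.hom) (t' := γ) hδ' q).1
  have h1 : rs g F (toBase ξ) rfl q y = 0 := by
    apply hb
    rw [map_zero]
    refine (rs_rs g F (toBase ξ) rfl (Spec.map (CommRingCat.ofHom δ)) hδ' γ' hδ h q y).trans hy
  obtain ⟨i, hi⟩ := exists_zero_of_toBase g F q V.hom ξ y h1
  have hV : AlgebraicGeometry.Etale V.hom := V.prop
  have hD : AlgebraicGeometry.Etale ((D ξ).obj i).hom := ((D ξ).obj i).prop
  have hc : AlgebraicGeometry.Etale (((D ξ).obj i).hom ≫ V.hom) := inferInstance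
  refine ⟨Scheme.Etale.mk (((D ξ).obj i).hom ≫ V.hom), MorphismProperty.Over.homMk ((D ξ).obj i).hom rfl trivial,
    Spec.map (CommRingCat.ofHom δ) ≫ leg ξ i, ?_, hi⟩
  exact (Category.assoc _ _ _).trans ((congrArg (Spec.map (CommRingCat.ofHom δ) ≫ ·) (leg_hom ξ i)).trans hδ)

end Groth.Agent.Lefpen.H119.NbPf
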