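import Groth.Agent.Lefpen.H119.Cover
import Groth.Agent.Lefpen.H416.Sub
import Groth.Agent.Lefpen.H416.Spl
import Mathlib.AlgebraicGeometry.Restrict

/-!
# The cover of the classes `M • z` splits over the strict localization

`exists_sec`: a class on a strictly henselian local `S`-scheme `γ : Spec R ⟶ S` gives a section of `E` over the
inverse image of `U`. `isSplit_W`: if the classes `M • z` at one geometric point extend to `Spec R` then `EM` is split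
over the inverse image of `U` in `Spec R`.
-/

set_option autoImplicit false
universe u
open CategoryTheory CategoryTheory.Limits AlgebraicGeometry Opposite
open Groth.Agent.Lefpen.H712.HT Groth.Agent.Lefpen.H916.ThetaDef

namespace Groth.Agent.Lefpen.H119.SecW

open Groth.Agent.Lefpen.H119.Cover

variable {S Y : Scheme.{u}} {g : Y ⟶ S} {F : EtCoh.Ab Y} {q : ℕ} {U : S.Opens}
  (th : Theta g F q U)

/-- The field `sec` for an étale morphism. -/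
theorem sec' {T : Scheme.{u}} (t : T ⟶ S) [Etale t] (b : T ⟶ (U : Scheme.{u})) (hb : b ≫ U.ι = t)
    (x : HT g F t q) : ∃ s : T ⟶ th.E, s ≫ th.p = b ∧
      ∀ {Ω : Type u} [Field Ω] [IsSepClosed Ω] (v : Spec (CommRingCat.of Ω) ⟶ T)
        (ξ : Spec (CommRingCat.of Ω) ⟶ S) (h : v ≫ t = ξ),
        th.rel ξ (v ≫ s) (rs g F v h q x) := by
  obtain ⟨s, hs, hr⟩ := th.sec (Scheme.Etale.mk t) b hb x
  refine ⟨s, hs, ?_⟩
  intro Ω _ _ v ξ h
  subst h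
  exact hr v

theorem exists_nb (hnb : NbSurj g F q) {R : Type u} [CommRing R] [IsLocalRing R]
    (hR : EtCoh.IsStrictlyHenselianLocalRing R) (γ : Spec (CommRingCat.of R) ⟶ S) (x : HT g F γ q) :
    ∃ (T : Scheme.{u}) (t : T ⟶ S) (_ : Etale t) (γ' : Spec (CommRingCat.of R) ⟶ T) (h : γ' ≫ t = γ)
      (y : HT g F t q), rs g F γ' h q y = x := by
  obtain ⟨V, γ', hγ, y, h⟩ := hnb R hR γ x
  exact ⟨V.left, V.hom, V.prop, γ', hγ, y, h⟩

/-- A class over a strictly henselian local scheme gives a section of `E`. -/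
theorem exists_sec (hnb : NbSurj g F q) {R : Type u} [CommRing R] [IsLocalRing R]
    (hR : EtCoh.IsStrictlyHenselianLocalRing R) (γ : Spec (CommRingCat.of R) ⟶ S) (x : HT g F γ q) :
    ∃ s : ((γ ⁻¹ᵁ U : (Spec (CommRingCat.of R)).Opens) : Scheme.{u}) ⟶ th.E, s ≫ th.p = γ ∣_ U ∧
      ∀ {Ω : Type u} [Field Ω] [IsSepClosed Ω]
        (v : Spec (CommRingCat.of Ω) ⟶ ((γ ⁻¹ᵁ U : (Spec (CommRingCat.of R)).Opens) : Scheme.{u}))
        (τ : Spec (CommRingCat.of Ω) ⟶ Spec (CommRingCat.of R)) (_ : v ≫ (γ ⁻¹ᵁ U).ι = τ)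
        (ξ : Spec (CommRingCat.of Ω) ⟶ S) (h : τ ≫ γ = ξ),
        th.rel ξ (v ≫ s) (rs g F τ h q x) := by
  obtain ⟨V, t, ht, γ', hγ, y, rfl⟩ := exists_nb hnb hR γ x
  let P : V.Opens := t ⁻¹ᵁ U
  obtain ⟨s, hs, hr⟩ := sec' th (P.ι ≫ t) (t ∣_ U) (morphismRestrict_ι _ _)
    (rs g F (t' := P.ι ≫ t) P.ι rfl q y)
  have hrange : Set.range ((γ ⁻¹ᵁ U).ι ≫ γ') ⊆ Set.range P.ι := by
    rw [Scheme.Opens.range_ι]
    rintro _ ⟨z, rfl⟩
    have h1 : γ ((γ ⁻¹ᵁ U).ι z) ∈ U := z.2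
    have h2 : t (γ' ((γ ⁻¹ᵁ U).ι z)) = γ ((γ ⁻¹ᵁ U).ι z) := by
      rw [← Scheme.Hom.comp_apply, hγ]
    rw [← h2] at h1
    exact h1
  let w : ((γ ⁻¹ᵁ U : (Spec (CommRingCat.of R)).Opens) : Scheme.{u}) ⟶ (P : Scheme.{u}) :=
    IsOpenImmersion.lift P.ι ((γ ⁻¹ᵁ U).ι ≫ γ') hrange
  have hw : w ≫ P.ι = (γ ⁻¹ᵁ U).ι ≫ γ' := IsOpenImmersion.lift_fac _ _ _
  refine ⟨w ≫ s, ?_, ?_⟩
  · rw [Category.assoc, hs, ← cancel_mono U.ι, Category.assoc, morphismRestrict_ι, morphismRestrict_ι,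
      ← Category.assoc, hw, Category.assoc, hγ]
  · intro Ω _ _ v τ hτ ξ h
    have h1 : (v ≫ w) ≫ P.ι ≫ t = ξ := by
      rw [Category.assoc, ← Category.assoc w, hw, Category.assoc, hγ, ← Category.assoc, hτ, h]
    have h2 := hr (v ≫ w) ξ h1
    have h3 : rs g F (v ≫ w) h1 q (rs g F (t' := P.ι ≫ t) P.ι rfl q y) =
        rs g F τ h q (rs g F γ' hγ q y) := by
      rw [rs_rs g F (t' := P.ι ≫ t) P.ι rfl (v ≫ w) h1 (τ ≫ γ')
        (by rw [Category.assoc, hw, ← Category.assoc, hτ]) (by rw [Category.assoc, hγ, h]) q y,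
        rs_rs g F γ' hγ τ h (τ ≫ γ') rfl (by rw [Category.assoc, hγ, h]) q y]
    rw [h3] at h2
    rw [← Category.assoc]
    exact h2

open Groth.Agent.Pi1A Groth.Agent.Pi1A.FEtAffine in
/-- If the classes `M • z` at one geometric point of `Spec R` extend to `Spec R` then `EM` is split over the inverse
image of `U`. -/
theorem isSplit_W (M : ℕ) {EM : FEt.Cat (U : Scheme.{u})} (j : EM ⟶ EE th) [hj : Mono j.left]
    (hEM : ∀ {Ω : Type u} [Field Ω] [IsSepClosed Ω] (e : Spec (CommRingCat.of Ω) ⟶ EM.left),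
      ∃ z, th.rel (e ≫ EM.hom ≫ U.ι) (e ≫ j.left) (M • z))
    (hnb : NbSurj g F q) {R : Type u} [CommRing R] [IsLocalRing R]
    (hR : EtCoh.IsStrictlyHenselianLocalRing R) (γ : Spec (CommRingCat.of R) ⟶ S)
    [ConnectedSpace ((γ ⁻¹ᵁ U : (Spec (CommRingCat.of R)).Opens) : Scheme.{u})]
    {Ω : Type u} [Field Ω] [IsSepClosed Ω] (τ : Spec (CommRingCat.of Ω) ⟶ Spec (CommRingCat.of R))
    (hτU : (τ ≫ γ) default ∈ U)
    (hlic : ∀ z : HT g F (τ ≫ γ) q, ∃ x : HT g F γ q, rs g F τ rfl q x = M • z) :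
    Pi1.IsSplit ((FEt.restrict (γ ∣_ U)).obj EM) := by
  have hrange : Set.range τ ⊆ Set.range (γ ⁻¹ᵁ U).ι := by
    rw [Scheme.Opens.range_ι]
    rintro _ ⟨z, rfl⟩
    rw [Subsingleton.elim z default]
    exact hτU
  let τW : Spec (CommRingCat.of Ω) ⟶ ((γ ⁻¹ᵁ U : (Spec (CommRingCat.of R)).Opens) : Scheme.{u}) :=
    IsOpenImmersion.lift (γ ⁻¹ᵁ U).ι τ hrange
  have hτW : τW ≫ (γ ⁻¹ᵁ U).ι = τ := IsOpenImmersion.lift_fac _ _ _
  refine Groth.Agent.Lefpen.H416.Spl.spl _ τW (fun e he => ?_)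
  let e₁ : Spec (CommRingCat.of Ω) ⟶ EM.left := e ≫ proj (γ ∣_ U) EM
  have he₁ : e₁ ≫ EM.hom = τW ≫ γ ∣_ U := by
    change (e ≫ proj (γ ∣_ U) EM) ≫ EM.hom = _
    rw [Category.assoc, (FEtAffine.isPullback (γ ∣_ U) EM).w, ← Category.assoc, he]
  have he₂ : e₁ ≫ EM.hom ≫ U.ι = τ ≫ γ := by
    rw [← Category.assoc, he₁, Category.assoc, morphismRestrict_ι, ← Category.assoc, hτW]
  obtain ⟨z, hz⟩ : ∃ z : HT g F (τ ≫ γ) q, th.rel (τ ≫ γ) (e₁ ≫ j.left) (M • z) := by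
    have h := hEM e₁
    rw [he₂] at h
    exact h
  obtain ⟨x, hx⟩ := hlic z
  obtain ⟨s, hs, h2⟩ : ∃ s : ((γ ⁻¹ᵁ U : (Spec (CommRingCat.of R)).Opens) : Scheme.{u}) ⟶ (EE th).left,
      s ≫ (EE th).hom = γ ∣_ U ∧ τW ≫ s = e₁ ≫ j.left := by
    obtain ⟨s, hs, hsr⟩ := exists_sec th hnb hR γ x
    have h1 := hsr τW τ hτW (τ ≫ γ) rfl
    rw [hx] at h1
    exact ⟨s, hs, th.unique_e _ _ _ _ h1 hz⟩
  let sE : ((γ ⁻¹ᵁ U : (Spec (CommRingCat.of R)).Opens) : Scheme.{u}) ⟶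
      ((FEt.restrict (γ ∣_ U)).obj (EE th)).left :=
    (FEtAffine.isPullback (γ ∣_ U) (EE th)).lift s (𝟙 _) (by rw [Category.id_comp, hs])
  have hsE₁ : sE ≫ proj (γ ∣_ U) (EE th) = s := IsPullback.lift_fst _ _ _ _
  have hsE₂ : sE ≫ ((FEt.restrict (γ ∣_ U)).obj (EE th)).hom = 𝟙 _ := IsPullback.lift_snd _ _ _ _
  have hw : ((FEt.restrict (γ ∣_ U)).map j).left ≫ ((FEt.restrict (γ ∣_ U)).obj (EE th)).hom =
      ((FEt.restrict (γ ∣_ U)).obj EM).hom := Over.w ((FEt.restrict (γ ∣_ U)).map j).hom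
  have hmono : Mono ((FEt.restrict (γ ∣_ U)).map j).left := by
    refine ⟨fun a b hab => ?_⟩
    apply (FEtAffine.isPullback (γ ∣_ U) EM).hom_ext
    · rw [← cancel_mono j.left, Category.assoc, Category.assoc, ← map_left_proj, ← Category.assoc, hab,
        Category.assoc]
    · rw [← hw, ← Category.assoc, hab, Category.assoc]
  obtain ⟨s', hs'⟩ := Groth.Agent.Lefpen.H416.Sub.sub ((FEt.restrict (γ ∣_ U)).obj (EE th))
    ((FEt.restrict (γ ∣_ U)).obj EM) ((FEt.restrict (γ ∣_ U)).map j) τW sE hsE₂ e (by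
      apply (FEtAffine.isPullback (γ ∣_ U) (EE th)).hom_ext
      · rw [Category.assoc, map_left_proj, Category.assoc, hsE₁, h2, ← Category.assoc]
      · rw [Category.assoc, hw, he, Category.assoc, hsE₂, Category.comp_id])
  have hs'' : s' ≫ ((FEt.restrict (γ ∣_ U)).obj EM).hom = 𝟙 _ := by
    rw [← hw, ← Category.assoc, hs', hsE₂]
  refine ⟨s', hs'', ?_⟩
  rw [← cancel_mono ((FEt.restrict (γ ∣_ U)).map j).left, Category.assoc, hs']
  apply (FEtAffine.isPullback (γ ∣_ U) (EE th)).hom_ext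
  · rw [Category.assoc, hsE₁, h2, Category.assoc, Category.assoc, map_left_proj]
  · rw [Category.assoc, hsE₂, Category.assoc, hw, he, Category.comp_id]

/-- `isSplit_W` with `ξ = τ ≫ γ`. -/
theorem isSplit_W' (M : ℕ) {EM : FEt.Cat (U : Scheme.{u})} (j : EM ⟶ EE th) [hj : Mono j.left]
    (hEM : ∀ {Ω : Type u} [Field Ω] [IsSepClosed Ω] (e : Spec (CommRingCat.of Ω) ⟶ EM.left),
      ∃ z, th.rel (e ≫ EM.hom ≫ U.ι) (e ≫ j.left) (M • z))
    (hnb : NbSurj g F q) {R : Type u} [CommRing R] [IsLocalRing R]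
    (hR : EtCoh.IsStrictlyHenselianLocalRing R) (γ : Spec (CommRingCat.of R) ⟶ S)
    [ConnectedSpace ((γ ⁻¹ᵁ U : (Spec (CommRingCat.of R)).Opens) : Scheme.{u})]
    {Ω : Type u} [Field Ω] [IsSepClosed Ω] (τ : Spec (CommRingCat.of Ω) ⟶ Spec (CommRingCat.of R))
    (ξ : Spec (CommRingCat.of Ω) ⟶ S) (hξ : τ ≫ γ = ξ) (hU : ξ default ∈ U)
    (hlic : ∀ z : HT g F ξ q, ∃ x : HT g F γ q, rs g F τ hξ q x = M • z) :
    Pi1.IsSplit ((FEt.restrict (γ ∣_ U)).obj EM) := by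
  subst hξ
  exact isSplit_W th M j hEM hnb hR γ τ hU hlic

end Groth.Agent.Lefpen.H119.SecW
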